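import Mathlib

/-!
Two-transitive groups with an involution whose centraliser consists of elements with equally many
fixed points: counting.
-/

set_option autoImplicit false
set_option linter.unusedSectionVars false
set_option linter.style.haveILetI false

namespace CfsgLib.CentFix

open Finset

universe u v

variable {G : Type u} {Ω : Type v} [Group G] [Fintype G] [DecidableEq G]
  [Fintype Ω] [DecidableEq Ω] [MulAction G Ω]

/-- The fixed points of an element. -/
def fixF (g : G) : Finset Ω := univ.filter fun x => g • x = x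

theorem mem_fixF {g : G} {x : Ω} : x ∈ fixF g ↔ g • x = x := by simp [fixF]

/-- The standing hypothesis. -/
structure Hyp (G : Type u) (Ω : Type v) [Group G] [Fintype Ω] [DecidableEq Ω] [MulAction G Ω]
    (t : G) (i : ℕ) : Prop where
  faith : FaithfulSMul G Ω
  two : ∀ a b c d : Ω, a ≠ b → c ≠ d → ∃ g : G, g • a = c ∧ g • b = d
  ht : orderOf t = 2
  fix_t : (univ.filter fun x : Ω => t • x = x).card = i
  fix_cent : ∀ g : G, Commute g t → g ≠ 1 → (univ.filter fun x : Ω => g • x = x).card = i

/-- The elements mapping one pair of points to another one. -/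
def fib (a b c d : Ω) : Finset G := univ.filter fun g => g • a = c ∧ g • b = d

theorem mem_fib {a b c d : Ω} {g : G} : g ∈ fib (G := G) a b c d ↔ g • a = c ∧ g • b = d := by
  simp [fib]

/-- The elements commuting with a given one. -/
def cz (v : G) : Finset G := univ.filter fun g => g * v = v * g

/-- The conjugates of an element. -/
def cls (t : G) : Finset G := univ.filter fun v => ∃ c : G, c * t * c⁻¹ = v

theorem mem_cls {t v : G} : v ∈ cls t ↔ ∃ c : G, c * t * c⁻¹ = v := by simp [cls]

theorem card_fixF_conj (h g : G) : (fixF (Ω := Ω) (h * g * h⁻¹)).card = (fixF (Ω := Ω) g).card := by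
  have : fixF (Ω := Ω) (h * g * h⁻¹) = (fixF g).map (MulAction.toPerm h : Equiv.Perm Ω).toEmbedding := by
    ext x
    simp only [Finset.mem_map_equiv, mem_fixF, mul_smul, MulAction.toPerm_symm_apply]
    exact ⟨fun e => by
      conv_rhs => rw [← e]
      rw [inv_smul_smul], fun e => by rw [e, smul_inv_smul]⟩
  rw [this, card_map]

theorem card_cls (t : G) : (cls t).card * (cz t).card = Fintype.card G := by
  have h := card_eq_sum_card_fiberwise (s := (univ : Finset G)) (t := cls t)
    (f := fun g => g * t * g⁻¹) (fun g _ => mem_cls.2 ⟨g, rfl⟩)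
  rw [Finset.card_univ] at h
  rw [h, sum_const_nat (m := (cz t).card)]
  intro v hv
  obtain ⟨c, rfl⟩ := mem_cls.1 hv
  refine (card_equiv (Equiv.mulLeft c) fun g => ?_).symm
  simp only [cz, mem_filter, mem_univ, true_and, Equiv.coe_mulLeft]
  constructor
  · intro e
    rw [show c * g * t * (c * g)⁻¹ = c * (g * t) * g⁻¹ * c⁻¹ by group, e]
    group
  · intro e
    have e' : c * (g * t * g⁻¹) * c⁻¹ = c * t * c⁻¹ := by rw [← e]; group
    have e2 : g * t * g⁻¹ = t := mul_left_cancel (mul_right_cancel e')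
    exact mul_inv_eq_iff_eq_mul.1 e2

namespace Hyp

variable {t : G} {i : ℕ} (H : Hyp G Ω t i)
include H

theorem t_ne_one : t ≠ 1 := fun e => by
  have := H.ht
  rw [e, orderOf_one] at this
  omega

theorem i_lt : i < Fintype.card Ω := by
  rw [← H.fix_t, ← card_univ]
  refine card_lt_card ⟨subset_univ _, fun h => H.t_ne_one ?_⟩
  haveI := H.faith
  exact eq_of_smul_eq_smul fun x : Ω => by rw [one_smul]; exact (mem_filter.1 (h (mem_univ x))).2

theorem card_fib {a b c d : Ω} (hab : a ≠ b) (hcd : c ≠ d) :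
    (univ : Finset Ω).offDiag.card * (fib (G := G) a b c d).card = Fintype.card G := by
  have h := card_eq_sum_card_fiberwise (s := (univ : Finset G)) (t := (univ : Finset Ω).offDiag)
    (f := fun g => (g • a, g • b)) (fun g _ => by simpa using hab)
  rw [Finset.card_univ] at h
  rw [h, sum_const_nat (m := (fib (G := G) a b c d).card)]
  intro p hp
  obtain ⟨g, hg1, hg2⟩ := H.two c d p.1 p.2 hcd (mem_offDiag.1 hp).2.2
  refine (card_equiv (Equiv.mulLeft g) fun x => ?_).symm
  simp only [fib, mem_filter, mem_univ, true_and, Equiv.coe_mulLeft, Prod.ext_iff, mul_smul]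
  rw [← hg1, ← hg2, smul_left_cancel_iff, smul_left_cancel_iff]

theorem fix_of_cls {v : G} (hv : v ∈ cls t) : v * v = 1 ∧ (fixF (Ω := Ω) v).card = i := by
  obtain ⟨c, rfl⟩ := mem_cls.1 hv
  refine ⟨?_, (card_fixF_conj c t).trans H.fix_t⟩
  have ht2 : t * t = 1 := by rw [← pow_two, ← H.ht, pow_orderOf_eq_one]
  rw [show c * t * c⁻¹ * (c * t * c⁻¹) = c * (t * t) * c⁻¹ by group, ht2]
  group

/-- Orbit counting in the centraliser. -/
theorem card_cz_le : (cz t).card ≤ Fintype.card Ω - i := by
  classical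
  let C : Subgroup G := Subgroup.centralizer {t}
  have hC : Fintype.card C = (cz t).card := by
    rw [Fintype.card_subtype]
    refine congrArg Finset.card (Finset.ext fun g => ?_)
    simp only [cz, mem_filter, mem_univ, true_and, C, Subgroup.mem_centralizer_singleton_iff]
  have h := MulAction.sum_card_fixedBy_eq_card_orbits_mul_card_group C Ω
  rw [← add_sum_erase _ _ (mem_univ (1 : C))] at h
  have h1 : Fintype.card (MulAction.fixedBy Ω (1 : C)) = Fintype.card Ω :=
    Fintype.card_congr ((Equiv.setCongr (by ext x; simp)).trans (Equiv.Set.univ Ω))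
  have h2 : ∀ g ∈ (univ : Finset C).erase 1, Fintype.card (MulAction.fixedBy Ω g) = i := by
    intro g hg
    have hg1 : (g : G) ≠ 1 := fun e => (mem_erase.1 hg).1 (Subtype.ext e)
    rw [← H.fix_cent g (Subgroup.mem_centralizer_singleton_iff.1 g.2) hg1]
    exact (Fintype.card_congr (Equiv.setCongr rfl)).trans (Fintype.card_subtype _)
  rw [sum_const_nat h2, h1, card_erase_of_mem (mem_univ _), card_univ, hC] at h
  set r := Fintype.card (Quotient (MulAction.orbitRel C Ω))
  have hpos : 1 ≤ (cz t).card := card_pos.2 ⟨1, by simp [cz]⟩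
  have hlt := H.i_lt
  have hn : (r - i) * (cz t).card = Fintype.card Ω - i := by
    obtain ⟨m, hm⟩ := Nat.exists_eq_add_of_le hpos
    rw [Nat.sub_mul, ← h, hm, Nat.add_sub_cancel_left, mul_add, mul_one, mul_comm i m]
    omega
  have : 0 < r - i := by
    rcases Nat.eq_zero_or_pos (r - i) with e | e
    · rw [e, zero_mul] at hn; omega
    · exact e
  rw [← hn]
  exact Nat.le_mul_of_pos_left _ this

theorem sum_swapped :
    ∑ p ∈ (univ : Finset Ω).offDiag, ((cls t).filter fun v => v ∈ fib p.1 p.2 p.2 p.1).card =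
      (cls t).card * (Fintype.card Ω - i) := by
  simp only [card_filter]
  rw [sum_comm, sum_const_nat (m := Fintype.card Ω - i)]
  intro v hv
  obtain ⟨hv2, hvi⟩ := H.fix_of_cls hv
  rw [← card_filter, ← hvi, ← card_compl]
  refine card_bij (fun p _ => p.1) ?_ ?_ ?_
  · intro p hp
    obtain ⟨hp1, hp2⟩ := mem_filter.1 hp
    rw [mem_compl, mem_fixF, (mem_fib.1 hp2).1]
    exact Ne.symm (mem_offDiag.1 hp1).2.2
  · intro p hp q hq e
    have hpv := (mem_fib.1 (mem_filter.1 hp).2).1
    have hqv := (mem_fib.1 (mem_filter.1 hq).2).1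
    exact Prod.ext e (by rw [← hpv, ← hqv]; exact congrArg (v • ·) e)
  · intro x hx
    rw [mem_compl, mem_fixF] at hx
    refine ⟨(x, v • x), mem_filter.2 ⟨mem_offDiag.2 ⟨mem_univ _, mem_univ _, Ne.symm hx⟩, ?_⟩, rfl⟩
    exact mem_fib.2 ⟨rfl, by rw [← mul_smul, hv2, one_smul]⟩

theorem sum_swappers :
    ∑ p ∈ (univ : Finset Ω).offDiag, (fib (G := G) p.1 p.2 p.2 p.1).card = Fintype.card G := by
  rcases (univ : Finset Ω).offDiag.eq_empty_or_nonempty with he | ⟨q, hq⟩
  · exfalso
    have hne : ∃ x : Ω, t • x ≠ x := by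
      by_contra h
      push Not at h
      haveI := H.faith
      exact H.t_ne_one (eq_of_smul_eq_smul fun x : Ω => by rw [one_smul, h x])
    obtain ⟨x, hx⟩ := hne
    have : (t • x, x) ∈ (univ : Finset Ω).offDiag := by simpa using hx
    simp [he] at this
  · have hq' := (mem_offDiag.1 hq).2.2
    rw [← H.card_fib hq' (Ne.symm hq'), sum_const_nat]
    intro p hp
    have hp' := (mem_offDiag.1 hp).2.2
    exact Nat.eq_of_mul_eq_mul_left (card_pos.2 ⟨q, hq⟩)
      ((H.card_fib hp' (Ne.symm hp')).trans (H.card_fib hq' (Ne.symm hq')).symm)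

/-- Every element interchanging two points is a conjugate of `t`, and `n - i = |C(t)|`. -/
theorem key : (∀ (a b : Ω) (g : G), a ≠ b → g • a = b → g • b = a → g ∈ cls t) ∧
    (cls t).card * (Fintype.card Ω - i) = Fintype.card G := by
  have hle : ∀ p ∈ (univ : Finset Ω).offDiag, ((cls t).filter fun v => v ∈ fib p.1 p.2 p.2 p.1).card ≤
      (fib (G := G) p.1 p.2 p.2 p.1).card :=
    fun p _ => card_le_card fun v hv => (mem_filter.1 hv).2
  have hge : Fintype.card G ≤ (cls t).card * (Fintype.card Ω - i) := by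
    rw [← card_cls t]
    exact Nat.mul_le_mul_left _ H.card_cz_le
  have hsum := sum_le_sum hle
  rw [H.sum_swapped, H.sum_swappers] at hsum
  refine ⟨fun a b g hab h1 h2 => ?_, le_antisymm hsum hge⟩
  have hp : (a, b) ∈ (univ : Finset Ω).offDiag := by simpa using hab
  have heq := (sum_eq_sum_iff_of_le hle).1
    (by rw [H.sum_swapped, H.sum_swappers]; exact le_antisymm hsum hge) _ hp
  have hset : ((cls t).filter fun v => v ∈ fib a b b a) = fib a b b a :=
    eq_of_subset_of_card_le (fun v hv => (mem_filter.1 hv).2) heq.ge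
  exact (mem_filter.1 (hset.symm ▸ mem_fib.2 ⟨h1, h2⟩ : g ∈ (cls t).filter _)).1

theorem swap_cls {a b : Ω} {g : G} (hab : a ≠ b) (h1 : g • a = b) (h2 : g • b = a) : g ∈ cls t :=
  H.key.1 a b g hab h1 h2

theorem card_eq : (cls t).card * (Fintype.card Ω - i) = Fintype.card G := H.key.2

/-- All involutions are conjugate to `t`. -/
theorem inv_cls {v : G} (hv : v * v = 1) (hv1 : v ≠ 1) : v ∈ cls t := by
  obtain ⟨x, hx⟩ : ∃ x : Ω, v • x ≠ x := by
    by_contra h
    push Not at h
    haveI := H.faith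
    exact hv1 (eq_of_smul_eq_smul fun x : Ω => by rw [one_smul, h x])
  exact H.swap_cls (Ne.symm hx) rfl (by rw [← mul_smul, hv, one_smul])

theorem inv_fix {v : G} (hv : v * v = 1) (hv1 : v ≠ 1) : (fixF (Ω := Ω) v).card = i :=
  (H.fix_of_cls (H.inv_cls hv hv1)).2

/-- The centralisers of all involutions satisfy the hypothesis. -/
theorem fix_comm {v g : G} (hv : v * v = 1) (hv1 : v ≠ 1) (hc : Commute g v) (hg : g ≠ 1) :
    (fixF (Ω := Ω) g).card = i := by
  obtain ⟨c, hcv⟩ := mem_cls.1 (H.inv_cls hv hv1)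
  rw [show g = c * (c⁻¹ * g * c) * c⁻¹ by group, card_fixF_conj]
  refine H.fix_cent _ ?_ fun e => hg ?_
  · show c⁻¹ * g * c * t = t * (c⁻¹ * g * c)
    rw [show t = c⁻¹ * v * c by rw [← hcv]; group]
    rw [show c⁻¹ * g * c * (c⁻¹ * v * c) = c⁻¹ * (g * v) * c by group, hc.eq]
    group
  · calc g = c * (c⁻¹ * g * c) * c⁻¹ := by group
      _ = 1 := by rw [e]; group

/-- The elements interchanging two points are involutions inverting the stabiliser of both. -/
theorem exists_swap {a b : Ω} (hab : a ≠ b) : ∃ u : G, u • a = b ∧ u • b = a ∧ u * u = 1 ∧ u ≠ 1 ∧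
    ∀ d : G, d • a = a → d • b = b → u * d * u = d⁻¹ := by
  obtain ⟨u, h1, h2⟩ := H.two a b b a hab (Ne.symm hab)
  have hu := (H.fix_of_cls (H.swap_cls hab h1 h2)).1
  refine ⟨u, h1, h2, hu, fun e => hab (by rw [← h1, e, one_smul]), fun d hda hdb => ?_⟩
  have hud := (H.fix_of_cls (H.swap_cls hab (g := u * d) (by rw [mul_smul, hda, h1])
    (by rw [mul_smul, hdb, h2]))).1
  exact eq_inv_of_mul_eq_one_left (by rw [← hud]; group)

theorem pair_comm {a b : Ω} (hab : a ≠ b) {d e : G} (hda : d • a = a) (hdb : d • b = b)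
    (hea : e • a = a) (heb : e • b = b) : Commute d e := by
  obtain ⟨u, -, -, hu, -, hinv⟩ := H.exists_swap hab
  have h := hinv (d * e) (by rw [mul_smul, hea, hda]) (by rw [mul_smul, heb, hdb])
  rw [show u * (d * e) * u = u * d * (u * u) * e * u by rw [hu]; group,
    show u * d * (u * u) * e * u = u * d * u * (u * e * u) by group, hinv d hda hdb,
    hinv e hea heb] at h
  have := congrArg (·⁻¹) h
  exact (show d * e = e * d by simpa [mul_inv_rev] using this.symm)

end Hyp

end CfsgLib.CentFix
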