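import Cfsg.Agent.Lib.CentFix.Count
import Cfsg.Agent.Lib.Perm.SocleApps
import Cfsg.Agent.Lib.Elementary
import Cfsg.Agent.S0205
import Cfsg.Agent.S0215

/-!
Two-transitive groups with an involution whose centraliser consists of elements with equally many
fixed points: no non-identity element fixes three points, unless some normal subgroup is regular.
-/

set_option autoImplicit false
set_option linter.unusedSectionVars false
set_option linter.style.haveILetI false

namespace CfsgLib.CentFix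

open Finset

universe u v

variable {G : Type u} {Ω : Type v} [Group G] [Fintype G] [DecidableEq G]
  [Fintype Ω] [DecidableEq Ω] [MulAction G Ω]

theorem sq_of_orderOf_two {v : G} (h : orderOf v = 2) : v * v = 1 ∧ v ≠ 1 := by
  refine ⟨by rw [← pow_two, ← h, pow_orderOf_eq_one], fun e => ?_⟩
  rw [e, orderOf_one] at h
  omega

theorem inv_eq_self {v : G} (hv : v * v = 1) : v⁻¹ = v := inv_eq_of_mul_eq_one_right hv

theorem even_of_fixedPointFree {α : Type*} [DecidableEq α] (F : Finset α) (f : α → α)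
    (hmem : ∀ x ∈ F, f x ∈ F) (hinv : ∀ x ∈ F, f (f x) = x) (hne : ∀ x ∈ F, f x ≠ x) :
    Even F.card := by
  have h : ∑ _x ∈ F, (1 : ZMod 2) = 0 :=
    Finset.sum_involution (fun x _ => f x) (fun _ _ => by decide) (fun x hx _ => hne x hx) hmem hinv
  rw [sum_const, nsmul_one, ZMod.natCast_eq_zero_iff_even] at h
  exact h

namespace Hyp

variable {t : G} {i : ℕ} (H : Hyp G Ω t i)
include H

/-- An element of the centraliser of an involution `v` which is not an involution has the fixed points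
of `v`. -/
theorem fix_of_sq {v g : G} (hv : v * v = 1) (hv1 : v ≠ 1) (hc : Commute g v) (hg2 : g * g ≠ 1) :
    fixF (Ω := Ω) g = fixF v := by
  have hg : g ≠ 1 := fun e => hg2 (by rw [e, one_mul])
  have hgv : g * v * (g * v) = g * g := by
    rw [show g * v * (g * v) = g * (v * g) * v by group, ← hc.eq,
      show g * (g * v) * v = g * g * (v * v) by group, hv, mul_one]
  have hgv1 : g * v ≠ 1 := fun e => hg2 (by rw [← hgv, e, one_mul])
  have key : ∀ h : G, Commute h v → h ≠ 1 → h * h = g * g →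
      fixF (Ω := Ω) h = fixF (g * g) := fun h hh hh1 he => by
    refine eq_of_subset_of_card_le (fun x hx => ?_) ?_
    · rw [mem_fixF] at hx ⊢
      rw [← he, mul_smul, hx, hx]
    · rw [H.fix_comm hv hv1 hh hh1, H.fix_comm hv hv1 (hc.mul_left hc) hg2]
  have e1 := key g hc hg rfl
  have e2 := key (g * v) (hc.mul_left (Commute.refl v)) hgv1 hgv
  refine eq_of_subset_of_card_le (fun x hx => ?_) ?_
  · have hx' : x ∈ fixF (g * v) := by rw [e2, ← e1]; exact hx
    rw [mem_fixF] at hx hx' ⊢
    have hx'' : g • (v • x) = g • x := by rw [← mul_smul, hx', hx]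
    exact smul_left_cancel g hx''
  · rw [H.fix_comm hv hv1 hc hg, H.inv_fix hv hv1]

/-- If an involution fixes three points, its centraliser has exponent two. -/
theorem exponent_two {v : G} {a b c : Ω} (hv : v * v = 1) (hv1 : v ≠ 1) (hab : a ≠ b) (hac : a ≠ c)
    (hbc : b ≠ c) (ha : v • a = a) (hb : v • b = b) (hc : v • c = c) :
    ∀ g : G, Commute g v → g * g = 1 := by
  obtain ⟨u, hua, hub, hu, -, hiu⟩ := H.exists_swap hab
  obtain ⟨w, hwb, hwc, hw, -, hiw⟩ := H.exists_swap hbc
  have hcom : ∀ r : G, r * r = 1 → r * v * r = v⁻¹ → Commute r v := fun r hr e => by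
    rw [inv_eq_self hv] at e
    exact show r * v = v * r by rw [← mul_one (r * v), ← hr, ← mul_assoc, e]
  have hcu := hcom u hu (hiu v ha hb)
  have hcw := hcom w hw (hiw v hb hc)
  intro g hg
  by_contra hg2
  have hgF : ∀ x : Ω, v • x = x → g • x = x := fun x hx => by
    rw [← mem_fixF, H.fix_of_sq hv hv1 hg hg2]
    exact mem_fixF.2 hx
  -- a product of an element moving a fixed point of `v` with `g` is an involution
  have hsq : ∀ r : G, Commute r v → ∀ x : Ω, v • x = x → r • x ≠ x → r * g * (r * g) = 1 := by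
    intro r hr x hx hrx
    by_contra hne
    refine hrx ?_
    have : (r * g) • x = x := by
      rw [← mem_fixF, H.fix_of_sq hv hv1 (hr.mul_left hg) hne]
      exact mem_fixF.2 hx
    rwa [mul_smul, hgF x hx] at this
  have hsq' : ∀ r : G, Commute r v → ∀ x : Ω, v • x = x → r • x ≠ x → r * r = 1 := by
    intro r hr x hx hrx
    by_contra hne
    refine hrx ?_
    rw [← mem_fixF, H.fix_of_sq hv hv1 hr hne]
    exact mem_fixF.2 hx
  have hwu : (w * u) • a = c := by rw [mul_smul, hua, hwb]
  have e1 := hsq u hcu a ha (by rw [hua]; exact Ne.symm hab)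
  have e2 := hsq w hcw b hb (by rw [hwb]; exact Ne.symm hbc)
  have e3 := hsq (w * u) (hcw.mul_left hcu) a ha (by rw [hwu]; exact Ne.symm hac)
  have e4 := hsq' (w * u) (hcw.mul_left hcu) a ha (by rw [hwu]; exact Ne.symm hac)
  -- `u`, `w` and `w * u` all invert `g`
  have inv_of : ∀ r : G, r * r = 1 → r * g * (r * g) = 1 → r * g * r = g⁻¹ := fun r _ h =>
    eq_inv_of_mul_eq_one_left (by rw [← h]; group)
  have i1 := inv_of u hu e1
  have i2 := inv_of w hw e2
  have i3 := inv_of (w * u) e4 e3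
  have i4 : w * u * g * (w * u) = g := by
    have hcomm : w * u = u * w := by
      have := eq_inv_of_mul_eq_one_left e4
      rwa [mul_inv_rev, inv_eq_self hu, inv_eq_self hw] at this
    calc w * u * g * (w * u) = w * u * g * (u * w) := by rw [hcomm]
      _ = w * (u * g * u) * w := by group
      _ = w * g⁻¹ * w := by rw [i1]
      _ = (w * g * w)⁻¹ := by
        conv_rhs => rw [mul_inv_rev, mul_inv_rev, inv_eq_self hw, ← mul_assoc]
      _ = g := by rw [i2, inv_inv]
  have hgi : g⁻¹ = g := i3.symm.trans i4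
  exact hg2 (mul_eq_one_iff_eq_inv.2 hgi.symm)

/-- If an involution fixes three points then the stabiliser of two of them fixes all its fixed points. -/
theorem fix_all {v d : G} {a b c x : Ω} (hv : v * v = 1) (hv1 : v ≠ 1) (hab : a ≠ b) (hac : a ≠ c)
    (hbc : b ≠ c) (ha : v • a = a) (hb : v • b = b) (hc : v • c = c) (hx : v • x = x)
    (hda : d • a = a) (hdb : d • b = b) : d • x = x := by
  rcases eq_or_ne x a with rfl | hxa
  · exact hda
  have hexp := H.exponent_two hv hv1 hab hac hbc ha hb hc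
  obtain ⟨u, hua, -, hu, -, hinv⟩ := H.exists_swap (Ne.symm hxa)
  have hcu : Commute u v := by
    have e := hinv v ha hx
    rw [inv_eq_self hv] at e
    exact show u * v = v * u by rw [← mul_one (u * v), ← hu, ← mul_assoc, e]
  have hcd : Commute d v := H.pair_comm hab hda hdb ha hb
  have hdu : d * u = u * d := by
    have h1 := eq_inv_of_mul_eq_one_left (hexp (d * u) (hcd.mul_left hcu))
    rwa [mul_inv_rev, inv_eq_self hu, inv_eq_self (hexp d hcd)] at h1
  rw [← hua, ← mul_smul, hdu, mul_smul, hda]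

/-- If two points are fixed by an involution, the involutions have at most two fixed points. -/
theorem i_le_two : i ≤ 2 := by
  by_contra hi
  push Not at hi
  obtain ⟨ht2, ht1⟩ := sq_of_orderOf_two H.ht
  have hF : (fixF (Ω := Ω) t).card = i := H.fix_t
  obtain ⟨a, b, c, ha, hb, hc, hab, hac, hbc⟩ := two_lt_card_iff.1 (hF.symm ▸ hi)
  rw [mem_fixF] at ha hb hc
  have hexp := H.exponent_two ht2 ht1 hab hac hbc ha hb hc
  -- the centraliser
  let C : Subgroup G := Subgroup.centralizer {t}
  have hC : Nat.card C = (cz t).card := by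
    classical
    rw [Nat.card_eq_fintype_card, Fintype.card_subtype]
    refine congrArg Finset.card (Finset.ext fun g => ?_)
    simp only [cz, mem_filter, mem_univ, true_and, C, Subgroup.mem_centralizer_singleton_iff]
  have hP : IsPGroup 2 C := fun g => ⟨1, Subtype.ext (by
    rw [pow_one, SubgroupClass.coe_pow, pow_two, OneMemClass.coe_one]
    exact hexp g (Subgroup.mem_centralizer_singleton_iff.1 g.2))⟩
  haveI : Fact (Nat.Prime 2) := ⟨Nat.prime_two⟩
  obtain ⟨e, he⟩ := IsPGroup.iff_card.1 hP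
  -- `i` divides the order of the centraliser
  have horb : (MulAction.orbit C a : Set Ω) = ↑(fixF (G := G) (Ω := Ω) t) := by
    ext x
    simp only [MulAction.mem_orbit_iff, mem_coe, mem_fixF]
    constructor
    · rintro ⟨g, rfl⟩
      have := Subgroup.mem_centralizer_singleton_iff.1 g.2
      rw [Subgroup.smul_def, ← mul_smul, ← this, mul_smul, ha]
    · intro hx
      rcases eq_or_ne x a with rfl | hxa
      · exact ⟨1, one_smul _ _⟩
      obtain ⟨u, hua, -, hu, -, hinv⟩ := H.exists_swap (Ne.symm hxa)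
      have e := hinv t ha hx
      rw [inv_eq_self ht2] at e
      refine ⟨⟨u, Subgroup.mem_centralizer_singleton_iff.2 ?_⟩, hua⟩
      rw [← mul_one (u * t), ← hu, ← mul_assoc, e]
  have hdvd1 : i ∣ 2 ^ e := by
    have hh : Nat.card (MulAction.orbit C a) ∣ Nat.card C :=
      Dvd.intro _ (by
        classical
        rw [Nat.card_eq_fintype_card, Nat.card_eq_fintype_card]
        exact MulAction.card_orbit_mul_card_stabilizer_eq_card_group C a)
    rwa [horb, Nat.card_coe_set_eq, Set.ncard_coe_finset, hF, he] at hh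
  -- the lines through a point
  have hinvol : ∀ y : Ω, y ≠ a → ∃ v : G, v * v = 1 ∧ v ≠ 1 ∧ v • a = a ∧ v • y = y := by
    intro y hy
    obtain ⟨h, h1, h2⟩ := H.two a b a y hab (Ne.symm hy)
    refine ⟨h * t * h⁻¹, ?_, fun e => ht1 ?_, ?_, ?_⟩
    · rw [show h * t * h⁻¹ * (h * t * h⁻¹) = h * (t * t) * h⁻¹ by group, ht2]; group
    · calc t = h⁻¹ * (h * t * h⁻¹) * h := by group
        _ = 1 := by rw [e]; group
    · rw [mul_smul, mul_smul, inv_smul_eq_iff.2 h1.symm, ha, h1]
    · rw [mul_smul, mul_smul, inv_smul_eq_iff.2 h2.symm, hb, h2]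
  have hline : ∀ v w : G, ∀ y z : Ω, v * v = 1 → v ≠ 1 → v • a = a → v • y = y → w * w = 1 → w ≠ 1 →
      w • a = a → w • z = z → y ≠ a → z ≠ a → v • z = z → fixF (Ω := Ω) v = fixF w := by
    intro v w y z hv hv1 hva hvy hw hw1 hwa hwz hy hz hvz
    refine (eq_of_subset_of_card_le (fun x hx => ?_) (by rw [H.inv_fix hv hv1, H.inv_fix hw hw1]))
    rw [mem_fixF] at hx ⊢
    obtain ⟨p, hp, hpa, hpz⟩ : ∃ p ∈ fixF (Ω := Ω) v, p ≠ a ∧ p ≠ z := by
      by_contra h
      push Not at h
      have : (fixF (Ω := Ω) v) ⊆ {a, z} := fun p hp => by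
        rcases eq_or_ne p a with e | e
        · simp [e]
        · simp [h p hp e]
      have := (card_le_card this).trans card_le_two
      rw [H.inv_fix hv hv1] at this
      omega
    exact H.fix_all hv hv1 (Ne.symm hz) (Ne.symm hpa) (Ne.symm hpz) hva hvz (mem_fixF.1 hp) hx hwa hwz
  choose! f hf1 hf2 hf3 hf4 using hinvol
  have hdiv : i - 1 ∣ Fintype.card Ω - 1 := by
    rw [← card_univ, ← card_erase_of_mem (mem_univ a),
      card_eq_sum_card_fiberwise (f := fun y => fixF (Ω := Ω) (f y))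
        (t := ((univ : Finset Ω).erase a).image fun y => fixF (Ω := Ω) (f y))
        (fun y hy => mem_image_of_mem _ hy)]
    refine dvd_sum fun L hL => ?_
    obtain ⟨y, hy, rfl⟩ := mem_image.1 hL
    have hya := (mem_erase.1 hy).1
    refine dvd_of_eq ?_
    rw [← H.inv_fix (hf1 y hya) (hf2 y hya), ← card_erase_of_mem (mem_fixF.2 (hf3 y hya))]
    congr 1
    ext z
    simp only [mem_filter, mem_erase, mem_univ, and_true]
    constructor
    · rintro ⟨hza, hz⟩
      exact ⟨hza, (hline (f y) (f z) y z (hf1 y hya) (hf2 y hya) (hf3 y hya) (hf4 y hya) (hf1 z hza)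
        (hf2 z hza) (hf3 z hza) (hf4 z hza) hya hza (mem_fixF.1 hz)).symm⟩
    · rintro ⟨hza, e⟩
      exact ⟨hza, e ▸ mem_fixF.2 (hf4 z hza)⟩
  have hn := H.card_eq
  rw [← card_cls t] at hn
  have hpos : 0 < (cls t).card := card_pos.2 ⟨t, mem_cls.2 ⟨1, by group⟩⟩
  have hni : Fintype.card Ω - i = 2 ^ e := by rw [← he, hC]; exact Nat.eq_of_mul_eq_mul_left hpos hn
  have hlt := H.i_lt
  have hdvd2 : i - 1 ∣ 2 ^ e := by
    have : Fintype.card Ω - 1 = 2 ^ e + (i - 1) := by omega
    rw [this] at hdiv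
    exact (Nat.dvd_add_left dvd_rfl).1 hdiv
  obtain ⟨p, -, hp⟩ := (Nat.dvd_prime_pow Nat.prime_two).1 hdvd1
  obtain ⟨q, -, hq⟩ := (Nat.dvd_prime_pow Nat.prime_two).1 hdvd2
  rcases Nat.eq_zero_or_pos q with rfl | hq0
  · simp at hq; omega
  rcases Nat.eq_zero_or_pos p with rfl | hp0
  · simp at hp; omega
  have h1 : 2 ∣ i := hp ▸ dvd_pow_self 2 (by omega)
  have h2 : 2 ∣ i - 1 := hq ▸ dvd_pow_self 2 (by omega)
  omega

/-- If a non-identity element fixes three points, commuting involutions are equal. -/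
theorem comm_inv_eq {x : G} (hx : x ≠ 1) {a b c : Ω} (hab : a ≠ b) (hac : a ≠ c) (hbc : b ≠ c)
    (hxa : x • a = a) (hxb : x • b = b) (hxc : x • c = c) :
    i = 1 ∧ ∀ v w : G, v * v = 1 → v ≠ 1 → w * w = 1 → w ≠ 1 → Commute v w → v = w := by
  classical
  set F := fixF (Ω := Ω) x with hFdef
  have hF3 : 3 ≤ F.card := by
    have : ({a, b, c} : Finset Ω) ⊆ F := fun y hy => by
      simp only [Finset.mem_insert, mem_singleton] at hy
      rcases hy with rfl | rfl | rfl <;> exact mem_fixF.2 (by assumption)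
    have := card_le_card this
    rw [card_eq_three.2 ⟨a, b, c, hab, hac, hbc, rfl⟩] at this
    exact this
  -- no involution commutes with `x`
  have hno : ∀ v : G, v * v = 1 → v ≠ 1 → ¬ Commute x v := fun v hv hv1 hc => by
    have := H.fix_comm hv hv1 hc hx
    have := H.i_le_two
    rw [← hFdef] at *
    omega
  let M : Subgroup G := Subgroup.centralizer {x}
  have hModd : Odd (Nat.card M) := by
    by_contra he
    rw [Nat.not_odd_iff_even] at he
    obtain ⟨y, hy⟩ := exists_prime_orderOf_dvd_card' 2 (even_iff_two_dvd.1 he)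
    have hy' : orderOf (y : G) = 2 := by rw [Subgroup.orderOf_coe]; exact hy
    obtain ⟨h1, h2⟩ := sq_of_orderOf_two hy'
    exact hno y h1 h2 (Subgroup.mem_centralizer_singleton_iff.1 y.2).symm
  have hswap : ∀ y z : Ω, y ∈ F → z ∈ F → y ≠ z → ∀ g : G, g • y = z → g • z = y →
      g * g = 1 ∧ g * x * g = x⁻¹ := by
    intro y z hy hz hyz g h1 h2
    have hg := (H.fix_of_cls (H.swap_cls hyz h1 h2)).1
    have hgx := (H.fix_of_cls (H.swap_cls hyz (g := g * x) (by rw [mul_smul, mem_fixF.1 hy, h1])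
      (by rw [mul_smul, mem_fixF.1 hz, h2]))).1
    exact ⟨hg, eq_inv_of_mul_eq_one_left (by rw [← hgx]; group)⟩
  have horb : (MulAction.orbit M a : Set Ω) = ↑F := by
    ext y
    simp only [MulAction.mem_orbit_iff, mem_coe]
    constructor
    · rintro ⟨g, rfl⟩
      rw [mem_fixF, Subgroup.smul_def, ← mul_smul, ← Subgroup.mem_centralizer_singleton_iff.1 g.2,
        mul_smul, hxa]
    · intro hy
      rcases eq_or_ne y a with rfl | hya
      · exact ⟨1, one_smul _ _⟩
      obtain ⟨z, hz, hza, hzy⟩ : ∃ z ∈ F, z ≠ a ∧ z ≠ y := by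
        rcases eq_or_ne y b with e | e
        · exact ⟨c, mem_fixF.2 hxc, Ne.symm hac, by rw [e]; exact Ne.symm hbc⟩
        · exact ⟨b, mem_fixF.2 hxb, Ne.symm hab, Ne.symm e⟩
      obtain ⟨u, hu1, hu2⟩ := H.two a z z a (Ne.symm hza) hza
      obtain ⟨w, hw1, hw2⟩ := H.two z y y z hzy (Ne.symm hzy)
      obtain ⟨hu, hux⟩ := hswap a z (mem_fixF.2 hxa) hz (Ne.symm hza) u hu1 hu2
      obtain ⟨hw, hwx⟩ := hswap z y hz hy hzy w hw1 hw2
      refine ⟨⟨w * u, Subgroup.mem_centralizer_singleton_iff.2 ?_⟩, ?_⟩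
      · have e1 : w * u * x * (u * w) = x := by
          rw [show w * u * x * (u * w) = w * (u * x * u) * w by group, hux]
          have := congrArg (·⁻¹) hwx
          simpa [mul_inv_rev, inv_eq_self hw, mul_assoc] using this
        calc w * u * x = w * u * x * (u * w) * (w * u) := by
              rw [show w * u * x * (u * w) * (w * u) = w * u * x * (u * (w * w) * u) by group, hw,
                mul_one, hu, mul_one]
          _ = x * (w * u) := by rw [e1]
      · show (w * u) • a = y
        rw [mul_smul, hu1, hw1]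
  have hFodd : Odd F.card := by
    have hh : Nat.card (MulAction.orbit M a) ∣ Nat.card M :=
      Dvd.intro _ (by
        rw [Nat.card_eq_fintype_card, Nat.card_eq_fintype_card]
        exact MulAction.card_orbit_mul_card_stabilizer_eq_card_group M a)
    rw [horb, Nat.card_coe_set_eq, Set.ncard_coe_finset] at hh
    exact hModd.of_dvd_nat hh
  -- every involution inverting `x` fixes a point of `F`
  have hpres : ∀ v : G, v * x * v = x⁻¹ → v * v = 1 → ∀ y ∈ F, v • y ∈ F := by
    intro v hv hv2 y hy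
    rw [mem_fixF] at hy ⊢
    have : x * v = v * x⁻¹ := by rw [← hv, ← mul_assoc, ← mul_assoc, hv2, one_mul]
    rw [← mul_smul, this, mul_smul, inv_smul_eq_iff.2 hy.symm]
  have hone : ∀ v : G, v * x * v = x⁻¹ → v * v = 1 → v ≠ 1 → ∃ y ∈ F, v • y = y := by
    intro v hv hv2 hv1
    by_contra h
    push Not at h
    exact (Nat.not_even_iff_odd.2 hFodd) (even_of_fixedPointFree F (v • ·) (hpres v hv hv2)
      (fun y _ => by show v • v • y = y; rw [← mul_smul, hv2, one_smul]) h)
  have hi1 : i = 1 := by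
    obtain ⟨u, hu1, hu2⟩ := H.two a b b a hab (Ne.symm hab)
    obtain ⟨hu, hux⟩ := hswap a b (mem_fixF.2 hxa) (mem_fixF.2 hxb) hab u hu1 hu2
    have hu' : u ≠ 1 := fun e => hab (by rw [← hu1, e, one_smul])
    obtain ⟨y, -, hy⟩ := hone u hux hu hu'
    have hpos : 0 < (fixF (Ω := Ω) u).card := card_pos.2 ⟨y, mem_fixF.2 hy⟩
    rw [H.inv_fix hu hu'] at hpos
    by_contra hi
    have : i = 2 := by have := H.i_le_two; omega
    -- otherwise some involution commutes with `x`
    obtain ⟨a', b', hab', hF'⟩ := card_eq_two.1 (H.fix_t.trans this)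
    obtain ⟨ht2, ht1⟩ := sq_of_orderOf_two H.ht
    have ha' : t • a' = a' := mem_fixF.1 (show a' ∈ fixF (G := G) (Ω := Ω) t by
      show a' ∈ univ.filter _
      rw [hF']; simp)
    have hb' : t • b' = b' := mem_fixF.1 (show b' ∈ fixF (G := G) (Ω := Ω) t by
      show b' ∈ univ.filter _
      rw [hF']; simp)
    obtain ⟨h, h1, h2⟩ := H.two a' b' a b hab' hab
    refine hno (h * t * h⁻¹) ?_ (fun e => ht1 ?_) (H.pair_comm hab hxa hxb ?_ ?_)
    · rw [show h * t * h⁻¹ * (h * t * h⁻¹) = h * (t * t) * h⁻¹ by group, ht2]; group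
    · calc t = h⁻¹ * (h * t * h⁻¹) * h := by group
        _ = 1 := by rw [e]; group
    · rw [mul_smul, mul_smul, inv_smul_eq_iff.2 h1.symm, ha', h1]
    · rw [mul_smul, mul_smul, inv_smul_eq_iff.2 h2.symm, hb', h2]
  refine ⟨hi1, ?_⟩
  have huniq : ∀ v : G, v * v = 1 → v ≠ 1 → ∀ y z : Ω, v • y = y → v • z = z → y = z :=
    fun v hv hv1 y z hy hz =>
      card_le_one.1 (by rw [H.inv_fix hv hv1, hi1]) y (mem_fixF.2 hy) z (mem_fixF.2 hz)
  -- every involution fixing `a` inverts `x`
  set J : Ω → Finset G := fun y => univ.filter fun v => v * v = 1 ∧ v ≠ 1 ∧ v • y = y with hJ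
  set I : Finset G := univ.filter fun v => v * v = 1 ∧ v ≠ 1 ∧ v * x * v = x⁻¹ with hI
  set d := (fib (G := G) a b a b).card with hd
  have hfib : ∀ y z : Ω, y ≠ z → (fib (G := G) y z z y).card = d := fun y z h =>
    Nat.eq_of_mul_eq_mul_left (card_pos.2 ⟨(a, b), by simpa using hab⟩)
      ((H.card_fib h (Ne.symm h)).trans (H.card_fib hab hab).symm)
  have hIcount : I.card * (F.card - 1) = F.offDiag.card * d := by
    have h1 : ∑ p ∈ F.offDiag, (I.filter fun v => v ∈ fib p.1 p.2 p.2 p.1).card = I.card * (F.card - 1) := by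
      simp only [card_filter]
      rw [sum_comm, sum_const_nat (m := F.card - 1)]
      intro v hv
      obtain ⟨hv2, hv1, hvx⟩ := (mem_filter.1 hv).2
      obtain ⟨y, hy, hvy⟩ := hone v hvx hv2 hv1
      rw [← card_filter, ← card_erase_of_mem hy]
      refine card_bij (fun p _ => p.1) ?_ ?_ ?_
      · intro p hp
        obtain ⟨hp1, hp2⟩ := mem_filter.1 hp
        refine mem_erase.2 ⟨fun e => (mem_offDiag.1 hp1).2.2 ?_, (mem_offDiag.1 hp1).1⟩
        rw [← (mem_fib.1 hp2).1, e, hvy]
      · intro p hp q hq e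
        have hpv := (mem_fib.1 (mem_filter.1 hp).2).1
        have hqv := (mem_fib.1 (mem_filter.1 hq).2).1
        exact Prod.ext e (by rw [← hpv, ← hqv]; exact congrArg (v • ·) e)
      · intro z hz
        obtain ⟨hzy, hzF⟩ := mem_erase.1 hz
        refine ⟨(z, v • z), mem_filter.2 ⟨mem_offDiag.2 ⟨hzF, hpres v hvx hv2 z hzF,
          fun e => hzy (huniq v hv2 hv1 z y e.symm hvy)⟩, ?_⟩, rfl⟩
        exact mem_fib.2 ⟨rfl, by rw [← mul_smul, hv2, one_smul]⟩
    rw [← h1, sum_const_nat]
    intro p hp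
    obtain ⟨hp1, hp2, hp3⟩ := mem_offDiag.1 hp
    rw [← hfib p.1 p.2 hp3]
    refine congrArg Finset.card (Finset.ext fun v => ⟨fun h => (mem_filter.1 h).2, fun h => ?_⟩)
    obtain ⟨e1, e2⟩ := mem_fib.1 h
    obtain ⟨e3, e4⟩ := hswap p.1 p.2 hp1 hp2 hp3 v e1 e2
    exact mem_filter.2 ⟨mem_filter.2 ⟨mem_univ _, e3, fun e => hp3 (by rw [← e1, e, one_smul]), e4⟩, h⟩
  have hIF : I.card = F.card * d := by
    rw [offDiag_card] at hIcount
    refine Nat.eq_of_mul_eq_mul_right (show 0 < F.card - 1 by omega) ?_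
    rw [hIcount, mul_right_comm, Nat.mul_sub_one]
  have hJc : ∀ y : Ω, (J y).card = d := by
    have hJeq : ∀ y z : Ω, (J y).card = (J z).card := by
      intro y z
      obtain ⟨h, hh⟩ : ∃ h : G, h • y = z := by
        rcases eq_or_ne y z with rfl | e
        · exact ⟨1, one_smul _ _⟩
        · exact ⟨(H.two y z z y e (Ne.symm e)).choose, (H.two y z z y e (Ne.symm e)).choose_spec.1⟩
      refine card_equiv (MulAut.conj h).toEquiv fun v => ?_
      simp only [hJ, mem_filter, mem_univ, true_and, MulEquiv.toEquiv_eq_coe, EquivLike.coe_coe,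
        MulAut.conj_apply]
      rw [show h * v * h⁻¹ * (h * v * h⁻¹) = h * (v * v) * h⁻¹ by group, ← hh, mul_smul, mul_smul,
        inv_smul_smul, smul_left_cancel_iff, conj_eq_one_iff, ne_eq, ne_eq, conj_eq_one_iff]
    have hsum : ∑ y : Ω, (J y).card = (cls t).card := by
      simp only [hJ, card_filter]
      rw [sum_comm, card_eq_sum_ones, ← sum_filter_add_sum_filter_not univ (fun v => v ∈ cls t),
        show (univ.filter fun v => v ∈ cls t) = cls t by ext v; simp]
      have h0 : ∑ v ∈ univ.filter (fun v => ¬ v ∈ cls t),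
          ∑ y : Ω, (if v * v = 1 ∧ v ≠ 1 ∧ v • y = y then 1 else 0) = 0 :=
        sum_eq_zero fun v hv => sum_eq_zero fun y _ =>
          if_neg fun h => (mem_filter.1 hv).2 (H.inv_cls h.1 h.2.1)
      rw [h0, add_zero]
      refine sum_congr rfl fun v hv => ?_
      obtain ⟨hv2, hvi⟩ := H.fix_of_cls hv
      have hv1 : v ≠ 1 := fun e => by
        obtain ⟨k, hk⟩ := mem_cls.1 hv
        refine H.t_ne_one ?_
        calc t = k⁻¹ * (k * t * k⁻¹) * k := by group
          _ = 1 := by rw [hk, e]; group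
      rw [← card_filter,
        show (univ.filter fun y : Ω => v * v = 1 ∧ v ≠ 1 ∧ v • y = y) = fixF v from
          filter_congr fun y _ => ⟨fun h => h.2.2, fun h => ⟨hv2, hv1, h⟩⟩, hvi, hi1]
    intro y
    rw [sum_const_nat fun z _ => hJeq z y, card_univ] at hsum
    have h := H.card_eq
    rw [← H.card_fib hab hab, offDiag_card, card_univ, hi1, ← hsum] at h
    have hlt := H.i_lt
    refine Nat.eq_of_mul_eq_mul_left (show 0 < Fintype.card Ω * (Fintype.card Ω - 1) from
      Nat.mul_pos (by omega) (by omega)) ?_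
    rw [mul_right_comm] at h
    rw [h, hd, Nat.mul_sub_one]
  intro v w hv hv1 hw hw1 hvw
  have hJI : ∀ y ∈ F, J y ⊆ I := by
    have h1 : I.card = ∑ y ∈ F, (I.filter fun v => v • y = y).card := by
      simp only [card_filter]
      rw [sum_comm, card_eq_sum_ones]
      refine sum_congr rfl fun v hv => ?_
      obtain ⟨hv2, hv1, hvx⟩ := (mem_filter.1 hv).2
      obtain ⟨y, hy, hvy⟩ := hone v hvx hv2 hv1
      rw [← card_filter, show (F.filter fun z => v • z = z) = {y} from ?_, card_singleton]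
      ext z
      simp only [mem_filter, mem_singleton]
      exact ⟨fun h => huniq v hv2 hv1 z y h.2 hvy, fun e => e ▸ ⟨hy, hvy⟩⟩
    have hle : ∀ y ∈ F, (I.filter fun v => v • y = y).card ≤ (J y).card := fun y _ =>
      card_le_card fun v hv => by
        obtain ⟨h1, h2⟩ := mem_filter.1 hv
        obtain ⟨h3, h4, -⟩ := (mem_filter.1 h1).2
        exact mem_filter.2 ⟨mem_univ _, h3, h4, h2⟩
    have heq : ∑ y ∈ F, (I.filter fun v => v • y = y).card = ∑ y ∈ F, (J y).card := by
      rw [← h1, hIF, sum_const_nat fun y _ => hJc y]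
    intro y hy v hv
    have hset : (I.filter fun v => v • y = y) = J y := by
      refine eq_of_subset_of_card_le (fun w hw => ?_) ((sum_eq_sum_iff_of_le hle).1 heq y hy).ge
      obtain ⟨h1, h2⟩ := mem_filter.1 hw
      obtain ⟨h3, h4, -⟩ := (mem_filter.1 h1).2
      exact mem_filter.2 ⟨mem_univ _, h3, h4, h2⟩
    exact (mem_filter.1 (hset.symm ▸ hv : v ∈ I.filter _)).1
  obtain ⟨p, hp⟩ := card_pos.1 (show 0 < (fixF (Ω := Ω) v).card by rw [H.inv_fix hv hv1, hi1]; omega)
  rw [mem_fixF] at hp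
  have hwp : w • p = p :=
    huniq v hv hv1 _ _ (by rw [← mul_smul, hvw.eq, mul_smul, hp]) hp
  obtain ⟨h, hh⟩ : ∃ h : G, h • a = p := by
    rcases eq_or_ne a p with rfl | e
    · exact ⟨1, one_smul _ _⟩
    · exact ⟨(H.two a p p a e (Ne.symm e)).choose, (H.two a p p a e (Ne.symm e)).choose_spec.1⟩
  have hin : ∀ r : G, r * r = 1 → r ≠ 1 → r • p = p →
      (h⁻¹ * r * h) * (h⁻¹ * r * h) = 1 ∧ (h⁻¹ * r * h) * x * (h⁻¹ * r * h) = x⁻¹ := by
    intro r hr hr1 hrp
    have hmem : h⁻¹ * r * h ∈ J a := by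
      refine mem_filter.2 ⟨mem_univ _, ?_, fun e => hr1 ?_, ?_⟩
      · rw [show h⁻¹ * r * h * (h⁻¹ * r * h) = h⁻¹ * (r * r) * h by group, hr]; group
      · calc r = h * (h⁻¹ * r * h) * h⁻¹ := by group
          _ = 1 := by rw [e]; group
      · rw [mul_smul, mul_smul, hh, hrp, ← hh, inv_smul_smul]
    obtain ⟨e1, -, e2⟩ := (mem_filter.1 (hJI a (mem_fixF.2 hxa) hmem)).2
    exact ⟨e1, e2⟩
  obtain ⟨v2, vx⟩ := hin v hv hv1 hp
  obtain ⟨w2, wx⟩ := hin w hw hw1 hwp
  by_contra hne
  set v' := h⁻¹ * v * h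
  set w' := h⁻¹ * w * h
  have hvw2 : v' * w' = w' * v' := by
    rw [show v' * w' = h⁻¹ * (v * w) * h by simp only [v', w']; group, hvw.eq]
    simp only [v', w']; group
  refine hno (v' * w') ?_ (fun e => hne ?_) ?_
  · calc v' * w' * (v' * w') = v' * w' * (w' * v') := by rw [← hvw2]
      _ = v' * (w' * w') * v' := by group
      _ = 1 := by rw [w2, mul_one, v2]
  · have : v' = w' := by rw [mul_eq_one_iff_eq_inv.1 e, inv_eq_self w2]
    calc v = h * v' * h⁻¹ := by simp only [v']; group
      _ = h * w' * h⁻¹ := by rw [this]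
      _ = w := by simp only [w']; group
  · have e1 : v' * w' * x * (w' * v') = x := by
      rw [show v' * w' * x * (w' * v') = v' * (w' * x * w') * v' by group, wx]
      have := congrArg (·⁻¹) vx
      simpa [mul_inv_rev, inv_eq_self v2, mul_assoc] using this
    show x * (v' * w') = v' * w' * x
    calc x * (v' * w') = v' * w' * x * (w' * v') * (v' * w') := by rw [e1]
      _ = v' * w' * x * (w' * (v' * v') * w') := by group
      _ = v' * w' * x := by rw [v2, mul_one, w2, mul_one]

end Hyp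

end CfsgLib.CentFix
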