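import Cfsg.Agent.Lib.CentFix.Main
import Cfsg.Agent.Lib.SuzukiUnique.ZassenhausIso
import Cfsg.Agent.S0680
import Cfsg.Agent.S0339
import Cfsg.Prelude.Def_Perm

/-!
Two-transitive groups with an involution whose centraliser consists of elements with equally many
fixed points: recognition.
-/

set_option autoImplicit false
set_option linter.unusedSectionVars false
set_option linter.style.haveILetI false

namespace CfsgLib.CentFix

open Finset

universe u v

variable {G : Type u} {Ω : Type v} [Group G] [Fintype G] [DecidableEq G]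
  [Fintype Ω] [DecidableEq Ω] [MulAction G Ω]

/-- The existence of a normal subgroup acting regularly. -/
def HasReg (G : Type u) (Ω : Type v) [Group G] [MulAction G Ω] : Prop :=
  ∃ R : Subgroup G, R.Normal ∧ (∀ x y : Ω, ∃ r ∈ R, r • x = y) ∧ ∀ x : Ω, ∀ r ∈ R, r • x = x → r = 1

namespace Hyp

variable {t : G} {i : ℕ} (H : Hyp G Ω t i)
include H

theorem two_le : 2 ≤ Fintype.card Ω := by
  by_contra h
  haveI := H.faith
  exact H.t_ne_one (eq_of_smul_eq_smul fun x : Ω => by
    rw [one_smul]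
    exact Fintype.card_le_one_iff.1 (by omega) _ _)

theorem preprimitive : MulAction.IsPreprimitive G Ω :=
  MulAction.isPreprimitive_of_is_two_pretransitive
    (MulAction.is_two_pretransitive_iff.2 fun hab hcd => H.two _ _ _ _ hab hcd)

/-- Without a regular normal subgroup, some non-identity element fixes two points. -/
theorem exists_fix_two (hR : ¬ HasReg G Ω) :
    ∃ g : G, g ≠ 1 ∧ ∃ a b : Ω, a ≠ b ∧ g • a = a ∧ g • b = b := by
  by_contra hno
  push Not at hno
  haveI := H.faith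
  let φ := MulAction.toPermHom G Ω
  have hinj : Function.Injective φ := fun g g' e => eq_of_smul_eq_smul fun x : Ω => DFunLike.congr_fun e x
  haveI : MulAction.IsMultiplyPretransitive φ.range Ω 2 := by
    rw [MulAction.is_two_pretransitive_iff]
    intro a b c d hab hcd
    obtain ⟨g, h1, h2⟩ := H.two a b c d hab hcd
    exact ⟨⟨φ g, g, rfl⟩, h1, h2⟩
  have hsharp : ∀ x : Fin 2 ↪ Ω, MulAction.stabilizer φ.range x = ⊥ := by
    intro x
    rw [Subgroup.eq_bot_iff_forall]
    rintro ⟨_, g, rfl⟩ hg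
    rw [MulAction.mem_stabilizer_iff] at hg
    have hg1 : g = 1 := by
      by_contra hg1
      exact hno g hg1 (x 0) (x 1) (fun e => by simpa using x.injective e)
        (DFunLike.congr_fun hg 0) (DFunLike.congr_fun hg 1)
    exact Subtype.ext (by show φ g = 1; rw [hg1, map_one])
  obtain ⟨p, j, hp, -, -, hP⟩ := Cfsg.Agent.S0680.result φ.range hsharp H.two_le
  haveI : Fact p.Prime := ⟨hp⟩
  obtain ⟨P⟩ : Nonempty (Sylow p φ.range) := inferInstance
  obtain ⟨hn, -, -, htr, hreg, -⟩ := hP ⟨hp⟩ P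
  refine hR ⟨(P : Subgroup φ.range).comap φ.rangeRestrict, hn.comap _, fun x y => ?_, fun x r hr e => ?_⟩
  · obtain ⟨⟨⟨_, g, rfl⟩, hg⟩, hxy⟩ := htr.exists_smul_eq x y
    exact ⟨g, hg, hxy⟩
  · have hm : (⟨φ.rangeRestrict r, hr⟩ : (P : Subgroup φ.range)) ∈
        MulAction.stabilizer (P : Subgroup φ.range) x := e
    rw [hreg x, Subgroup.mem_bot] at hm
    exact hinj (by rw [map_one]; exact congrArg (fun z : (P : Subgroup φ.range) => ((z : φ.range) : Equiv.Perm Ω)) hm)

/-- Without a regular normal subgroup, only the identity fixes three points. -/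
theorem no_three (hR : ¬ HasReg G Ω) : ∀ g : G, ∀ a b c : Ω, a ≠ b → b ≠ c → a ≠ c →
    g • a = a → g • b = b → g • c = c → g = 1 := by
  intro x a b c hab hbc hac hxa hxb hxc
  by_contra hx
  obtain ⟨hi, huniq⟩ := H.comm_inv_eq hx hab hac hbc hxa hxb hxc
  haveI := H.faith
  obtain ⟨ht2, ht1⟩ := sq_of_orderOf_two H.ht
  haveI : Fact (Nat.Prime 2) := ⟨Nat.prime_two⟩
  obtain ⟨P, hP⟩ := IsPGroup.exists_le_sylow (p := 2) (P := Subgroup.zpowers t)
    (IsPGroup.of_card (n := 1) (by rw [Nat.card_zpowers, H.ht, pow_one]))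
  have htP : t ∈ P := hP (Subgroup.mem_zpowers t)
  have hiso : ∀ g : G, g * t * g⁻¹ ∈ P → g * t * g⁻¹ = t := by
    intro g hg
    haveI : Nontrivial (P : Subgroup G) := ⟨⟨⟨t, htP⟩, 1, fun e => ht1 (congrArg Subtype.val e)⟩⟩
    have hz := P.2.center_nontrivial
    obtain ⟨z, hz2⟩ := exists_prime_orderOf_dvd_card' (G := Subgroup.center (P : Subgroup G)) 2 (by
      obtain ⟨k, hk⟩ := IsPGroup.iff_card.1 (P.2.to_subgroup (Subgroup.center (P : Subgroup G)))
      rw [hk]
      refine dvd_pow_self 2 fun h0 => ?_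
      rw [h0, pow_zero] at hk
      exact absurd (Finite.one_lt_card_iff_nontrivial.2 hz) (by omega))
    have hz' : orderOf ((z : (P : Subgroup G)) : G) = 2 := by
      rw [Subgroup.orderOf_coe, Subgroup.orderOf_coe]; exact hz2
    obtain ⟨z2, z1⟩ := sq_of_orderOf_two hz'
    have hzc : ∀ y ∈ P, Commute ((z : (P : Subgroup G)) : G) y := fun y hy =>
      (congrArg Subtype.val (Subgroup.mem_center_iff.1 z.2 ⟨y, hy⟩)).symm
    have e1 := huniq _ _ z2 z1 ht2 ht1 (hzc t htP)
    have hg2 : g * t * g⁻¹ * (g * t * g⁻¹) = 1 := by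
      rw [show g * t * g⁻¹ * (g * t * g⁻¹) = g * (t * t) * g⁻¹ by group, ht2]; group
    have e2 := huniq _ _ z2 z1 hg2 (fun e => ht1 (conj_eq_one_iff.1 e)) (hzc _ hg)
    rw [← e2, e1]
  obtain ⟨N, hN, hodd, hcom⟩ := Cfsg.Agent.S0215.result P t H.ht htP hiso
  have hN0 : N ≠ ⊥ := by
    intro e
    -- a central involution fixing a point fixes all points
    have hfix : (fixF (Ω := Ω) t).card = 1 := H.fix_t.trans hi
    obtain ⟨p, hp⟩ := card_eq_one.1 hfix
    have hp' : t • p = p := mem_fixF.1 (hp ▸ mem_singleton_self p)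
    refine ht1 (eq_of_smul_eq_smul fun y : Ω => ?_)
    rw [one_smul]
    rcases eq_or_ne y p with rfl | hy
    · exact hp'
    obtain ⟨g, hg, -⟩ := H.two p y y p (Ne.symm hy) hy
    have h1 := hcom g
    rw [e, Subgroup.mem_bot] at h1
    have h2 : t * g = g * t := by
      calc t * g = (t * g * t⁻¹ * g⁻¹) * (g * t) := by group
        _ = g * t := by rw [h1, one_mul]
    rw [← hg, ← mul_smul, h2, mul_smul, hp']
  obtain ⟨A, hAn, hAN, hA0, hmin⟩ := CfsgLib.exists_minimal_normal hN0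
  haveI : Group.IsSolvable A := Cfsg.Agent.S0205.result (hodd.of_dvd_nat (Subgroup.card_dvd_of_le hAN))
  obtain ⟨hab', -⟩ := CfsgLib.minimal_normal_elementary hA0 inferInstance hmin
  have htr := CfsgLib.Socle.trans_of_normal H.preprimitive A hA0
  exact hR ⟨A, hAn, htr, fun y r hr e => (CfsgLib.Socle.abelian_regular hA0 hmin hab' htr).1 r hr y e⟩

theorem zassenhaus (hR : ¬ HasReg G Ω) : Cfsg.IsZassenhausGroup G Ω := by
  refine ⟨H.faith, MulAction.is_two_pretransitive_iff.2 fun hab hcd => H.two _ _ _ _ hab hcd,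
    H.no_three hR, H.exists_fix_two hR, fun N hN htr => ?_⟩
  by_contra h
  push Not at h
  refine hR ⟨N, hN, fun x y => ?_, fun x r hr e => ?_⟩
  · obtain ⟨m, hm⟩ := htr.exists_smul_eq x y
    exact ⟨m, m.2, hm⟩
  · have hm : (⟨r, hr⟩ : N) ∈ MulAction.stabilizer N x := e
    rw [h x, Subgroup.mem_bot] at hm
    exact congrArg Subtype.val hm

/-- Without a regular normal subgroup the group is simple. -/
theorem simple (hR : ¬ HasReg G Ω) : IsSimpleGroup G := by
  haveI : Nontrivial G := ⟨⟨t, 1, H.t_ne_one⟩⟩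
  refine ⟨fun N hN => ?_⟩
  by_cases hN0 : N = ⊥
  · exact Or.inl hN0
  refine Or.inr (eq_top_iff.2 fun g _ => ?_)
  haveI := hN
  have hNZ := Cfsg.Agent.S0339.result (H.zassenhaus hR) N hN0
  have hN2 := hNZ.2.1
  have hsw : ∀ a b : Ω, a ≠ b → ∃ m ∈ N, m • a = b ∧ m • b = a := by
    intro a b hab
    obtain ⟨m, h1, h2⟩ := MulAction.is_two_pretransitive_iff.1 hN2 hab (Ne.symm hab)
    exact ⟨m, m.2, h1, h2⟩
  obtain ⟨a, b, hab⟩ := Fintype.one_lt_card_iff.1 H.two_le
  -- all involutions lie in `N`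
  have hcls : ∀ v ∈ cls t, v ∈ N := by
    intro v hv
    obtain ⟨m, hm, h1, h2⟩ := hsw a b hab
    obtain ⟨c, hc⟩ := mem_cls.1 (H.swap_cls hab h1 h2)
    obtain ⟨e, rfl⟩ := mem_cls.1 hv
    rw [show e * t * e⁻¹ = e * c⁻¹ * m * (e * c⁻¹)⁻¹ by rw [← hc]; group]
    exact hN.conj_mem m hm _
  obtain ⟨m, h1, h2⟩ := MulAction.is_two_pretransitive_iff.1 hN2 (c := g • a) (d := g • b) hab
    (fun e => hab (smul_left_cancel g e))
  change (m : G) • a = g • a at h1
  change (m : G) • b = g • b at h2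
  obtain ⟨u, hu1, hu2, -⟩ := H.exists_swap hab
  have hd : (m : G)⁻¹ * g ∈ N := by
    have hu := hcls u (H.swap_cls hab hu1 hu2)
    have hud : u * ((m : G)⁻¹ * g) ∈ N := hcls _ (H.swap_cls hab
      (by rw [mul_smul, mul_smul, ← h1, inv_smul_smul, hu1])
      (by rw [mul_smul, mul_smul, ← h2, inv_smul_smul, hu2]))
    have := N.mul_mem (N.inv_mem hu) hud
    rwa [inv_mul_cancel_left] at this
  have := N.mul_mem m.2 hd
  rwa [mul_inv_cancel_left] at this

end Hyp

end CfsgLib.CentFix
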